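import Cfsg.Agent.H446.TC6.GTwoCent

/-!
# Centralizers of `p`-singular elements of `G₂(q)` (helper446, S2464 row `G₂(q)`, box (G-a))

`card_cent_le_of_dvd`: `p ∣ orderOf g → |C(g)| ≤ q⁶ (q² - 1)`.
-/

set_option autoImplicit false

namespace Cfsg.Agent.H446.TC6.GTwoCent

open Subgroup Cfsg Cfsg.Lie

/-- a `p`-singular element has a power which is a nontrivial `p`-element -/
theorem exists_pow {G : Type*} [Group G] [Finite G] {p : ℕ} (hp : p.Prime) {g : G} (hg : p ∣ orderOf g) :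
    ∃ n : ℕ, g ^ n ≠ 1 ∧ orderOf (g ^ n) = p ^ 1 := by
  have h0 : 0 < orderOf g := orderOf_pos g
  obtain ⟨n, hn⟩ := hg
  have hn0 : n ≠ 0 := by
    rintro rfl
    omega
  have h1 : orderOf (g ^ n) = p := by
    rw [orderOf_pow' g hn0, hn, Nat.gcd_eq_right (Dvd.intro_left p rfl), Nat.mul_div_cancel _ (Nat.pos_of_ne_zero hn0)]
  refine ⟨n, ?_, by rw [h1, pow_one]⟩
  intro h
  rw [h, orderOf_one] at h1
  exact hp.one_lt.ne h1

/-- **`|C(g)| ≤ q⁶ (q² - 1)` for every `p`-singular `g`.** -/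
theorem card_cent_le_of_dvd (K : Type) [Field K] [Fintype K] (p : ℕ) [hp : Fact p.Prime] [CharP K p]
    {g : ↥(chevG2.group K)} (hg : p ∣ orderOf g) :
    Nat.card ↥(centralizer ({g} : Set ↥(chevG2.group K))) ≤ Fintype.card K ^ 6 * (Fintype.card K ^ 2 - 1) := by
  have hfin : Finite ↥(chevG2.group K) := inferInstance
  obtain ⟨n, h1, h2⟩ := exists_pow hp.out hg
  refine le_trans (Nat.le_of_dvd Nat.card_pos (Subgroup.card_dvd_of_le ?_)) (card_cent_le K p h1 ⟨1, h2⟩)
  intro x hx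
  rw [mem_centralizer_singleton_iff] at hx ⊢
  exact (Commute.pow_right (show Commute x g from hx) n)

end Cfsg.Agent.H446.TC6.GTwoCent
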