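import Cfsg.Agent.H115.ChevPar
import Cfsg.Agent.H35.ExcIdx
import Cfsg.Agent.KFacts.RgdFiltChev
import Cfsg.Agent.KFacts.RgdBorelTits
import Cfsg.Agent.Mrg.Omega.Lie.HeisF
import Cfsg.Agent.S1026
import Cfsg.Agent.S1035
import Cfsg.Agent.S1059

/-!
# Centralizers of unipotent elements of `G₂(q)` (helper446, S2464 row `G₂(q)`, box (G-a))

`card_cent_le`: `|C(u)| ≤ q⁶ (q² - 1)` for every `p`-element `u ≠ 1` of `G₂(q)`, `q = p ^ f`.
Borel–Tits: `C(u) ≤ P` with `P` a proper parabolic subgroup, `u ∈ U ≤ P`, `|P| ≤ q⁶ (q + 1) (q - 1)²`, and the torus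
moves `u` through at least `q - 1` elements.
-/

set_option autoImplicit false
set_option linter.unusedSectionVars false

namespace Cfsg.Agent.H446.TC6.GTwoCent

open Subgroup CoxeterSystem
open Cfsg Cfsg.Lie Cfsg.Lie.ChevalleyDatum
open Cfsg.Agent.ChevalleyStructure Cfsg.Agent.ChevalleyStructure.Elts Cfsg.Agent.ChevalleyStructure.CoxeterGeom
  Cfsg.Agent.ChevalleyStructure.RootVec Cfsg.Agent.ChevalleyStructure.RootVecTab
  Cfsg.Agent.ChevalleyStructure.CoxeterGeomTypes Cfsg.Agent.ChevalleyStructure.NPerm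
open Cfsg.Agent.Tits.Roots Cfsg.Agent.Tits.Core Cfsg.Agent.Nodes Cfsg.Agent.Nodes.Reps Cfsg.Agent.Nodes.BNOf
  Cfsg.Agent.Nodes.RGDChev Cfsg.Agent.Nodes.Bruhat Cfsg.Agent.Nodes.StabComb
open Cfsg.Agent.H35.ExcIdx Cfsg.Agent.H35.PoinNum Cfsg.Agent.Nodes.LeviDec Cfsg.Agent.KFacts.RgdBorelTits
open Cfsg.Agent.Omega.TwoF.GTwoLB (inG2 X H H_conj)

/-! ### counting -/

theorem count {F Y : Type*} [Field F] [Finite F] [Group Y] [Finite Y] (P : Subgroup Y) (u : Y)
    (hC : centralizer {u} ≤ P) (k : F → Y) (hk : ∀ c, c ≠ 0 → k c ∈ P)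
    (hinj : ∀ c c', c ≠ 0 → c' ≠ 0 → k c * u * (k c)⁻¹ = k c' * u * (k c')⁻¹ → c = c') :
    (Nat.card F - 1) * Nat.card (centralizer {u}) ≤ Nat.card P := by
  classical
  have := Fintype.ofFinite F
  have h1 : Nat.card Fˣ = Nat.card F - 1 := by
    rw [Nat.card_eq_fintype_card, Fintype.card_units, Nat.card_eq_fintype_card]
  rw [← h1, ← Nat.card_prod]
  refine Nat.card_le_card_of_injective (fun x : Fˣ × centralizer {u} =>
    (⟨k x.1 * x.2, P.mul_mem (hk _ x.1.ne_zero) (hC x.2.2)⟩ : P)) ?_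
  rintro ⟨c, x⟩ ⟨c', x'⟩ h
  have h2 : k c * (x : Y) = k c' * (x' : Y) := congrArg Subtype.val h
  have hx : (x : Y) * u = u * x := (mem_centralizer_singleton_iff.1 x.2).symm ▸ rfl
  have hx' : (x' : Y) * u = u * x' := (mem_centralizer_singleton_iff.1 x'.2).symm ▸ rfl
  have key : ∀ (a b : Y), b * u = u * b → (a * b) * u * (a * b)⁻¹ = a * u * a⁻¹ := by
    intro a b hb
    have : a * b * u = a * u * b := by rw [mul_assoc, hb, mul_assoc]
    rw [this]
    group
  have h3 := key (k c) x hx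
  have h4 := key (k c') x' hx'
  rw [h2, h4] at h3
  have h5 : (c : F) = c' := hinj _ _ c.ne_zero c'.ne_zero h3.symm
  have h6 : c = c' := Units.ext h5
  subst h6
  have h7 := mul_left_cancel h2
  rw [Subtype.ext h7]

/-! ### the coordinates of `U` and the torus -/

section Coord

universe u

variable {F : Type u} [Field F]

theorem posRoots_eq : chevG2.posRoots = [6, 7, 8, 9, 10, 11] := by decide +kernel

theorem conj_word {k : GL chevG2.Idx F} {e : ℕ → F} (hk : ∀ s < 12, ∀ t, k * xG inG2 s t * k⁻¹ = xG inG2 s (e s * t))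
    (t : ℕ → F) (l : List ℕ) (hl : ∀ s ∈ l, s < 12) :
    k * wordG inG2 (l.map fun r => (r, t r)) * k⁻¹ = wordG inG2 (l.map fun r => (r, e r * t r)) := by
  induction l with
  | nil => simp [wordG_nil]
  | cons s l ih =>
    rw [List.map_cons, List.map_cons, wordG_cons, wordG_cons, ← ih fun s hs => hl s (List.mem_cons_of_mem _ hs),
      ← hk s (hl s List.mem_cons_self)]
    group

/-- the torus separates the coordinates: a nonzero coordinate `s` on which `k c` acts by an injective function of `c`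
makes `c ↦ k c u (k c)⁻¹` injective. -/
theorem inj_of_coord {k : F → GL chevG2.Idx F} {e : F → ℕ → F}
    (hk : ∀ c, c ≠ 0 → ∀ s < 12, ∀ t, k c * xG inG2 s t * (k c)⁻¹ = xG inG2 s (e c s * t))
    {u : GL chevG2.Idx F} {t : ℕ → F} (ht0 : ∀ r, ¬ chevG2.IsPosRoot r → t r = 0)
    (ht : u = wordG inG2 (chevG2.posRoots.map fun r => (r, t r))) {s : ℕ} (hs : t s ≠ 0)
    (he : ∀ c c', c ≠ 0 → c' ≠ 0 → e c s = e c' s → c = c') {c c' : F} (hc : c ≠ 0) (hc' : c' ≠ 0)
    (h : k c * u * (k c)⁻¹ = k c' * u * (k c')⁻¹) : c = c' := by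
  have hl : ∀ s ∈ chevG2.posRoots, s < 12 := by rw [posRoots_eq]; decide
  have h1 : k c * u * (k c)⁻¹ = wordG inG2 (chevG2.posRoots.map fun r => (r, e c r * t r)) := by
    rw [ht]; exact conj_word (hk c hc) t _ hl
  have h2 : k c * u * (k c)⁻¹ = wordG inG2 (chevG2.posRoots.map fun r => (r, e c' r * t r)) := by
    rw [h, ht]; exact conj_word (hk c' hc') t _ hl
  have hmem : k c * u * (k c)⁻¹ ∈ chevG2.posUnipotent F := by
    rw [h1]
    refine mem_of_xG_mem inG2 fun p hp => ?_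
    obtain ⟨r, hr, rfl⟩ := List.mem_map.1 hp
    refine xG_mem_posUnipotent inG2 ?_ _
    rw [ChevalleyDatum.posRoots, List.mem_filter] at hr
    exact of_decide_eq_true hr.2
  obtain ⟨v, -, hv⟩ := (Cfsg.Agent.S1026.result chevG2 (by simp)).1 _ hmem
  have h3 := hv (fun r => e c r * t r) ⟨fun r hr => by simp only [ht0 r hr, mul_zero], (eq_wordG_iff inG2 _ _).1 h1⟩
  have h4 := hv (fun r => e c' r * t r) ⟨fun r hr => by simp only [ht0 r hr, mul_zero], (eq_wordG_iff inG2 _ _).1 h2⟩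
  have h5 := congrFun (h3.trans h4.symm) s
  exact he c c' hc hc' (mul_right_cancel₀ hs h5)

/-- **The torus moves every `u ∈ U`, `u ≠ 1`, through `q - 1` elements.** -/
theorem torus {u : ↥(chevG2.group F)} (hu : (u : GL chevG2.Idx F) ∈ chevG2.posUnipotent F) (hu1 : u ≠ 1) :
    ∃ k : F → ↥(chevG2.group F), (∀ c, c ≠ 0 → k c ∈ TT chevG2 F) ∧
      ∀ c c', c ≠ 0 → c' ≠ 0 → k c * u * (k c)⁻¹ = k c' * u * (k c')⁻¹ → c = c' := by
  obtain ⟨t, ⟨ht0, ht⟩, -⟩ := (Cfsg.Agent.S1026.result chevG2 (by simp)).1 _ hu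
  have ht' := (eq_wordG_iff inG2 _ _).2 ht
  have hT : ∀ i < 2, ∀ c : F, c ≠ 0 → H i c ∈ TT chevG2 F := by
    intro i hi c hc
    rw [mem_subgroupOf]
    exact hG_mem_diagonal inG2 (by interval_cases i <;> decide) hc
  -- a nonzero coordinate
  obtain ⟨s, hs6, hs12, hs⟩ : ∃ s, 6 ≤ s ∧ s < 12 ∧ t s ≠ 0 := by
    by_contra hcon
    push Not at hcon
    apply hu1
    apply Subtype.ext
    rw [ht', posRoots_eq]
    simp [wordG_cons, wordG_nil, hcon 6 (by norm_num) (by norm_num), hcon 7 (by norm_num) (by norm_num),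
      hcon 8 (by norm_num) (by norm_num), hcon 9 (by norm_num) (by norm_num), hcon 10 (by norm_num) (by norm_num),
      hcon 11 (by norm_num) (by norm_num), xG_zero]
  -- the conjugations
  have hH : ∀ i < 2, ∀ c : F, c ≠ 0 → ∀ s < 12, ∀ t : F,
      (H i c : GL chevG2.Idx F) * xG inG2 s t * (H i c : GL chevG2.Idx F)⁻¹ =
        xG inG2 s (c ^ (chevG2.cartan i s) * t) := by
    intro i hi c hc s hs t
    exact congrArg Subtype.val (H_conj hi hs hc t)
  have main : ∀ (k : F → ↥(chevG2.group F)) (e : F → ℕ → F),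
      (∀ c, c ≠ 0 → ∀ s < 12, ∀ t, (k c : GL chevG2.Idx F) * xG inG2 s t * (k c : GL chevG2.Idx F)⁻¹ =
        xG inG2 s (e c s * t)) →
      (∀ c c', c ≠ 0 → c' ≠ 0 → e c s = e c' s → c = c') →
      ∀ c c', c ≠ 0 → c' ≠ 0 → k c * u * (k c)⁻¹ = k c' * u * (k c')⁻¹ → c = c' := by
    intro k e h1 h2 c c' hc hc' h
    exact inj_of_coord (k := fun c => (k c : GL chevG2.Idx F)) h1 ht0 ht' hs h2 hc hc' (congrArg Subtype.val h)
  have single : ∀ i < 2, (chevG2.cartan i s = 1 ∨ chevG2.cartan i s = -1) →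
      ∃ k : F → ↥(chevG2.group F), (∀ c, c ≠ 0 → k c ∈ TT chevG2 F) ∧
      ∀ c c', c ≠ 0 → c' ≠ 0 → k c * u * (k c)⁻¹ = k c' * u * (k c')⁻¹ → c = c' := by
    intro i hi h
    refine ⟨H i, hT i hi, main (H i) (fun c s => c ^ (chevG2.cartan i s)) (hH i hi) ?_⟩
    intro c c' _ _ he
    rcases h with h | h
    · simpa [h] using he
    · simpa [h] using he
  interval_cases s
  · -- `s = 6`
    refine ⟨fun c => H 0 c * H 1 c, fun c hc => mul_mem (hT 0 (by norm_num) c hc) (hT 1 (by norm_num) c hc),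
      main _ (fun c s => c ^ (chevG2.cartan 0 s) * c ^ (chevG2.cartan 1 s)) ?_ ?_⟩
    · intro c hc s hs t
      have e1 : ((H 0 c * H 1 c : ↥(chevG2.group F)) : GL chevG2.Idx F) * xG inG2 s t *
          ((H 0 c * H 1 c : ↥(chevG2.group F)) : GL chevG2.Idx F)⁻¹ =
          (H 0 c : GL chevG2.Idx F) * ((H 1 c : GL chevG2.Idx F) * xG inG2 s t * (H 1 c : GL chevG2.Idx F)⁻¹) *
            (H 0 c : GL chevG2.Idx F)⁻¹ := by
        rw [Subgroup.coe_mul]; group
      rw [e1, hH 1 (by norm_num) c hc s hs, hH 0 (by norm_num) c hc s hs, mul_assoc]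
    · intro c c' hc hc' he
      have e0 : chevG2.cartan 0 6 = -3 := by decide
      have e1 : chevG2.cartan 1 6 = 2 := by decide
      simp only [e0, e1, ← zpow_add₀ hc, ← zpow_add₀ hc'] at he
      simpa using he
  · exact single 1 (by norm_num) (by decide)
  · exact single 1 (by norm_num) (by decide)
  · exact single 0 (by norm_num) (by decide)
  · exact single 1 (by norm_num) (by decide)
  · exact single 1 (by norm_num) (by decide)

end Coord

/-! ### the order of the parabolic subgroups -/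

section Par

theorem hpG2 : IsType chevG2 2 CoxeterMatrix.G₂ := by simp [IsType, typeList]

theorem path_G2 : ∀ j : Fin 2, ∃ i : Fin 2, ({k | k ≠ j} : Set (Fin 2)) = {k | k ∈ ([i] : List (Fin 2))} ∧
    PathOK CoxeterMatrix.G₂ [i] [i] [] 0 := by
  intro j
  refine ⟨1 - j, ?_, ?_⟩
  · ext k
    revert j k
    decide
  · constructor
    · intro t ht
      have : t = 0 := by simp at ht; omega
      subst this
      simp
    · intro t ht ht1
      simp at ht1
    · intro t ht s hs hst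
      simp at ht
      omega
    · intro k hk h
      exfalso
      rw [List.mem_singleton] at hk
      exact h 0 (by simp) (by simp [hk])
    · intro s hs t ht _
      simp at hs ht
      omega
    · intro k
      constructor
      · intro hk
        exact absurd hk (List.not_mem_nil)
      · rintro ⟨hk, h⟩
        rw [List.mem_singleton] at hk
        exact absurd (by simp [hk]) (h 0 (by simp))

variable (K : Type) [Field K] [Fintype K] (p : ℕ) [hp : Fact p.Prime] [CharP K p]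

include hp in
theorem card_PJ (j : Fin 2) :
    Nat.card ↥(PJ CoxeterMatrix.G₂.toCoxeterSystem hpG2.isCartan (TT chevG2 K) (XX chevG2 2 K) {k | k ≠ j}) =
      Fintype.card K ^ 6 * ((1 + Fintype.card K) * (Fintype.card K - 1) ^ 2) := by
  obtain ⟨f, -, hK⟩ := FiniteField.card K p
  obtain ⟨f, hf0⟩ := f
  have hK : Fintype.card K = p ^ f := hK
  let cs := CoxeterMatrix.G₂.toCoxeterSystem
  have hfin := finite_W hpG2 cs
  have R := rgd (K := K) hpG2 cs p
  obtain ⟨i, hi, hP⟩ := path_G2 j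
  have hc : ∀ i : Fin 2, Nat.card (XX chevG2 2 K (sr i)) = p ^ f := fun i => by
    rw [card_XX hpG2 K cs (isRoot_sr cs _ i), Nat.card_eq_fintype_card, hK]
  have hFin : Finite ↥(chevG2.group K) := inferInstance
  have hN : Nat.card ↥(PJ cs hpG2.isCartan (TT chevG2 K) (XX chevG2 2 K) {k | k ≠ j}) =
      (1 + p ^ f) * Nat.card ↥(RGD.B cs hpG2.isCartan (TT chevG2 K) (XX chevG2 2 K)) := by
    rw [hi, card_step R hP (fun i _ => hc i) (card_nil R)]
    simp [FA, Finset.sum_range_succ]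
  have hpr : pr (p ^ f) [2, 6] = (((p ^ f) ^ 2 - 1) * ((p ^ f) ^ 6 - 1)) := by simp only [pr_cons, pr_nil, mul_one]
  have hidx : (PJ cs hpG2.isCartan (TT chevG2 K) (XX chevG2 2 K) {k | k ≠ j}).index * (1 + p ^ f) *
      (p ^ f - 1) ^ 2 = (((p ^ f) ^ 2 - 1) * ((p ^ f) ^ 6 - 1)) := by
    rw [← hpr]
    refine index_split hpG2 K hp.out hf0.ne' hK cs (d := 1) (fun h => hp.out.one_lt.ne' (Nat.dvd_one.1 h)) ?_
      ⟨f * 6, ?_⟩ (not_dvd_pr hp.out hf0.ne' _ (by simp)) hN
    · rw [one_mul, ← hK]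
      have := Cfsg.Agent.S1035.result (F := K) rfl (chevG2, 1) (by simp)
      rwa [one_mul] at this
    · rw [one_mul, Cfsg.Agent.S1059.result hK, hpr, pow_mul]
      ring
  have h1 := Subgroup.index_mul_card (PJ cs hpG2.isCartan (TT chevG2 K) (XX chevG2 2 K) {k | k ≠ j})
  rw [Cfsg.Agent.S1059.result hK, mul_assoc ((p ^ f) ^ 6), ← hidx] at h1
  rw [hK]
  refine Nat.eq_of_mul_eq_mul_left (Nat.pos_of_ne_zero (Subgroup.index_ne_zero_of_finite (H := PJ cs hpG2.isCartan
    (TT chevG2 K) (XX chevG2 2 K) {k | k ≠ j}))) (h1.trans ?_)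
  ring

theorem PJ_mono {I W Y : Type*} [Fintype I] [DecidableEq I] [Group W] [Group Y] {M : CoxeterMatrix I}
    {cs : CoxeterSystem M W} {A : I → I → ℤ} {h : IsCartan M A} {p : ℕ} {T : Subgroup Y} {n : I → Y}
    {X : (I → ℤ) → Subgroup Y} (R : RGD cs h p T n X) [Finite W] {K L : Set I} (hKL : K ⊆ L) :
    PJ cs h T X K ≤ PJ cs h T X L := by
  intro g hg
  obtain ⟨w, hw, hc⟩ := (mem_PJ_iff_cell R).1 hg
  exact (mem_PJ_iff_cell R).2 ⟨w, Subgroup.closure_mono (Set.image_mono hKL) hw, hc⟩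

/-- **`|C(u)| ≤ q⁶ (q² - 1)` for every `p`-element `u ≠ 1` of `G₂(q)`, `q = p ^ f`.** -/
theorem card_cent_le {u : ↥(chevG2.group K)} (hu : u ≠ 1) (hup : ∃ k, orderOf u = p ^ k) :
    Nat.card ↥(centralizer ({u} : Set ↥(chevG2.group K))) ≤ Fintype.card K ^ 6 * (Fintype.card K ^ 2 - 1) := by
  have hW := finite_W hpG2 CoxeterMatrix.G₂.toCoxeterSystem
  have hfin : Finite ↥(chevG2.group K) := inferInstance
  have hFil := KFacts.RgdFiltChev.filt (K := K) hpG2 CoxeterMatrix.G₂.toCoxeterSystem p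
  have hG := H35.ExcIdx.GG_eq_top hpG2 K CoxeterMatrix.G₂.toCoxeterSystem
  have R := rgd (K := K) hpG2 CoxeterMatrix.G₂.toCoxeterSystem p
  have hK : IsPGroup p (zpowers u) := by
    obtain ⟨k, hk⟩ := hup
    exact IsPGroup.of_card (n := k) (by rw [Nat.card_zpowers, hk])
  obtain ⟨g, J, hJ, hle, hN⟩ := borel_tits hFil hG hK (by rw [Ne, zpowers_eq_bot]; exact hu)
  obtain ⟨j, hj⟩ : ∃ j, j ∉ J := by
    by_contra hcon
    push Not at hcon
    exact hJ (Set.eq_univ_of_forall hcon)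
  have hJj : J ⊆ {k | k ≠ j} := by
    rintro k hk rfl
    exact hj hk
  have hN' := hN.trans (Subgroup.map_mono (f := (MulAut.conj g).toMonoidHom) (PJ_mono R hJj))
  obtain ⟨v, hv, hvu⟩ : ∃ v ∈ VJ CoxeterMatrix.G₂.toCoxeterSystem hpG2.isCartan (XX chevG2 2 K) J, g * v * g⁻¹ = u := by
    obtain ⟨v, hv, hvu⟩ := hle (mem_zpowers u)
    exact ⟨v, hv, hvu⟩
  have hvU : (v : GL chevG2.Idx K) ∈ chevG2.posUnipotent K := by
    have h1 := VJ_le_U J hv
    rw [H115.sup_pos_eq hpG2 CoxeterMatrix.G₂.toCoxeterSystem, mem_subgroupOf] at h1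
    exact h1
  have hv1 : v ≠ 1 := by
    rintro rfl
    apply hu
    rw [← hvu]
    group
  obtain ⟨k, hkT, hk⟩ := torus hvU hv1
  have h1 := count (F := K) (cj g (PJ CoxeterMatrix.G₂.toCoxeterSystem hpG2.isCartan (TT chevG2 K) (XX chevG2 2 K)
    {k | k ≠ j})) u ?_ (fun c => g * k c * g⁻¹) ?_ ?_
  · have h2 : Nat.card ↥(cj g (PJ CoxeterMatrix.G₂.toCoxeterSystem hpG2.isCartan (TT chevG2 K) (XX chevG2 2 K)
        {k | k ≠ j})) = Fintype.card K ^ 6 * ((1 + Fintype.card K) * (Fintype.card K - 1) ^ 2) := by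
      rw [← card_PJ K p j]
      exact Nat.card_congr (Subgroup.equivMapOfInjective _ _ (MulAut.conj g).injective).symm.toEquiv
    rw [h2, Nat.card_eq_fintype_card] at h1
    have hq : 1 < Fintype.card K := Fintype.one_lt_card
    obtain ⟨m, hm⟩ : ∃ m, Fintype.card K = m + 1 := ⟨Fintype.card K - 1, by omega⟩
    rw [hm] at h1 hq ⊢
    have h3 : (m + 1) ^ 2 - 1 = m * (m + 2) := by
      have : (m + 1) ^ 2 = m * (m + 2) + 1 := by ring
      rw [this, Nat.add_sub_cancel]
    rw [h3]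
    rw [Nat.add_sub_cancel] at h1
    refine Nat.le_of_mul_le_mul_left (h1.trans (le_of_eq ?_)) (show 0 < m by omega)
    ring
  · refine le_trans ?_ hN'
    intro x hx
    have hx' := mem_centralizer_singleton_iff.1 hx
    refine Subgroup.centralizer_le_normalizer _ ?_
    rw [mem_centralizer_iff]
    rintro y ⟨n, rfl⟩
    exact (Commute.zpow_left (show Commute u x from hx'.symm) n)
  · intro c hc
    refine ⟨k c, ?_, rfl⟩
    exact B_le_PJ (RGD.T_le_B (hkT c hc))
  · intro c c' hc hc' h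
    refine hk c c' hc hc' ?_
    rw [← hvu] at h
    have e : ∀ a : ↥(chevG2.group K), g * a * g⁻¹ * (g * v * g⁻¹) * (g * a * g⁻¹)⁻¹ = g * (a * v * a⁻¹) * g⁻¹ := by
      intro a; group
    simp only [e] at h
    exact mul_left_cancel (mul_right_cancel h)

end Par

end Cfsg.Agent.H446.TC6.GTwoCent
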