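import Mathlib

/-!
# S2464, `³D₄(q)`: the numbers (helper446)

* `exists_r2` : `q² - 1` has a prime divisor `≥ 5` unless `q ∈ {2, 3, 5, 7, 17}`;
* `exists_r1` : `q² + q + 1` has a prime divisor `≥ 5`;
* `ne_of_dvd` : such a prime does not divide `q² - 1`.
-/

set_option autoImplicit false

namespace Cfsg.Agent.H446.TC6

/-- `3 ^ b + 1 = 2 ^ a` -/
theorem three_pow_add_one {a b : ℕ} (h : 3 ^ b + 1 = 2 ^ a) : 2 ^ a = 2 ∨ 2 ^ a = 4 := by
  have h1 : 3 ^ b % 8 = 1 ∨ 3 ^ b % 8 = 3 := by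
    induction b generalizing a with
    | zero => left; norm_num
    | succ b _ =>
      have key : ∀ c : ℕ, 3 ^ c % 8 = 1 ∨ 3 ^ c % 8 = 3 := by
        intro c
        induction c with
        | zero => left; norm_num
        | succ c ih =>
          rw [pow_succ, Nat.mul_mod]
          rcases ih with ih | ih <;> rw [ih] <;> norm_num
      exact key _
  have h2 : a ≤ 2 := by
    by_contra hcon
    push Not at hcon
    have h3 : 2 ^ 3 ∣ 2 ^ a := pow_dvd_pow 2 hcon
    omega
  have h0 : 0 < 3 ^ b := by positivity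
  interval_cases a
  · omega
  · left; norm_num
  · right; norm_num

/-- `2 ^ a + 1 = 3 ^ b` -/
theorem two_pow_add_one {a b : ℕ} (h : 2 ^ a + 1 = 3 ^ b) : 2 ^ a = 2 ∨ 2 ^ a = 8 := by
  have key : ∀ c : ℕ, 3 ^ (2 * c) % 8 = 1 ∧ 3 ^ (2 * c + 1) % 8 = 3 := by
    intro c
    induction c with
    | zero => constructor <;> norm_num
    | succ c ih =>
      rw [show 2 * (c + 1) = 2 * c + 2 by ring, show 2 * c + 2 + 1 = 2 * c + 1 + 2 by ring, pow_add 3 (2 * c),
        pow_add 3 (2 * c + 1), Nat.mul_mod, Nat.mul_mod (3 ^ (2 * c + 1)), ih.1, ih.2]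
      norm_num
  rcases Nat.lt_or_ge a 3 with ha | ha
  · interval_cases a
    · -- `2 = 3 ^ b`
      exfalso
      rcases Nat.eq_zero_or_pos b with hb | hb
      · subst hb; norm_num at h
      · have := dvd_pow_self 3 hb.ne'
        rw [← h] at this
        omega
    · left; norm_num
    · exfalso
      rcases Nat.eq_zero_or_pos b with hb | hb
      · subst hb; norm_num at h
      · have := dvd_pow_self 3 hb.ne'
        rw [← h] at this
        omega
  · right
    have h8 : 2 ^ 3 ∣ 2 ^ a := pow_dvd_pow 2 ha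
    rcases Nat.even_or_odd' b with ⟨c, hc | hc⟩
    · -- `(3 ^ c - 1) (3 ^ c + 1) = 2 ^ a`
      have hc1 : 1 ≤ 3 ^ c := Nat.one_le_pow _ _ (by norm_num)
      have h1 : (3 ^ c - 1) * (3 ^ c + 1) = 2 ^ a := by
        have h2 : 3 ^ b = 3 ^ c * 3 ^ c := by rw [hc, two_mul, pow_add]
        obtain ⟨t, ht⟩ := Nat.exists_eq_add_of_le hc1
        rw [ht] at h2 ⊢
        rw [show 1 + t - 1 = t by omega]
        have h3 : 2 ^ a + 1 = (1 + t) * (1 + t) := by rw [h, h2]
        nlinarith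
      obtain ⟨u, -, hu⟩ := (Nat.dvd_prime_pow Nat.prime_two).1 (Dvd.intro_left _ h1 : 3 ^ c + 1 ∣ 2 ^ a)
      rcases three_pow_add_one hu with h2 | h2
      · exfalso
        rw [← hu] at h2
        have h3 : 3 ^ c = 1 := by omega
        rw [h3] at h1
        have : 0 < 2 ^ a := by positivity
        omega
      · rw [← hu] at h2
        have h3 : 3 ^ c = 3 := by omega
        rw [← h1, h3]
    · exfalso
      have := (key c).2
      rw [← hc, ← h] at this
      omega

/-- `q² - 1` has a prime divisor `≥ 5` -/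
theorem exists_r2' {q : ℕ} (hq : 2 ≤ q) (h2 : q ≠ 2) (h3 : q ≠ 3) (h5 : q ≠ 5) (h7 : q ≠ 7)
    (h17 : q ≠ 17) : ∃ r, r.Prime ∧ 5 ≤ r ∧ r ∣ q ^ 2 - 1 := by
  by_contra hcon
  push Not at hcon
  have hfac : q ^ 2 - 1 = (q - 1) * (q + 1) := by
    obtain ⟨t, rfl⟩ := Nat.exists_eq_add_of_le (show 1 ≤ q by omega)
    rw [show 1 + t - 1 = t by omega, show (1 + t) ^ 2 = t * (1 + t + 1) + 1 by ring, Nat.add_sub_cancel]
  have key : ∀ r : ℕ, r.Prime → r ∣ q ^ 2 - 1 → r = 2 ∨ r = 3 := by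
    intro r hr hd
    have h1 : r < 5 := by
      by_contra h
      push Not at h
      exact hcon r hr h hd
    have h2 := hr.two_le
    interval_cases r
    · exact Or.inl rfl
    · exact Or.inr rfl
    · exact absurd hr (by norm_num)
  rcases Nat.even_or_odd' q with ⟨m, hm | hm⟩
  · -- `q` even: `3` divides `q - 1` and `q + 1`
    have h1 : 3 ∣ q - 1 := by
      obtain ⟨r, hr, hd⟩ := Nat.exists_prime_and_dvd (show q - 1 ≠ 1 by omega)
      rcases key r hr (hfac ▸ Dvd.dvd.mul_right hd _) with rfl | rfl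
      · omega
      · exact hd
    have h4 : 3 ∣ q + 1 := by
      obtain ⟨r, hr, hd⟩ := Nat.exists_prime_and_dvd (show q + 1 ≠ 1 by omega)
      rcases key r hr (hfac ▸ Dvd.dvd.mul_left hd _) with rfl | rfl
      · omega
      · exact hd
    omega
  · have hm1 : 1 ≤ m := by omega
    have hmm : q ^ 2 - 1 = 4 * (m * (m + 1)) := by
      rw [hfac, hm, Nat.add_sub_cancel]
      ring
    have k1 : ∀ r : ℕ, r.Prime → r ∣ m → r = 2 ∨ r = 3 := fun r hr hd =>
      key r hr (by rw [hmm]; exact Dvd.dvd.mul_left (Dvd.dvd.mul_right hd _) _)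
    have k2 : ∀ r : ℕ, r.Prime → r ∣ m + 1 → r = 2 ∨ r = 3 := fun r hr hd =>
      key r hr (by rw [hmm]; exact Dvd.dvd.mul_left (Dvd.dvd.mul_left hd _) _)
    rcases Nat.even_or_odd' m with ⟨n, hn | hn⟩
    · -- `m` even: `m + 1 = 3 ^ b`, `m = 2 ^ a`
      have e1 : m + 1 = 3 ^ (m + 1).primeFactorsList.length :=
        Nat.eq_prime_pow_of_unique_prime_dvd (by omega) fun {d} hd hdd => by
          rcases k2 d hd hdd with rfl | rfl
          · omega
          · rfl
      have h31 : 3 ∣ m + 1 := by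
        obtain ⟨r, hr, hd⟩ := Nat.exists_prime_and_dvd (show m + 1 ≠ 1 by omega)
        rcases k2 r hr hd with rfl | rfl
        · omega
        · exact hd
      have e2 : m = 2 ^ m.primeFactorsList.length :=
        Nat.eq_prime_pow_of_unique_prime_dvd (by omega) fun {d} hd hdd => by
          rcases k1 d hd hdd with rfl | rfl
          · rfl
          · omega
      have h1 := two_pow_add_one (a := m.primeFactorsList.length) (b := (m + 1).primeFactorsList.length)
        (by rw [← e2, ← e1])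
      rw [← e2] at h1
      omega
    · have e1 : m = 3 ^ m.primeFactorsList.length :=
        Nat.eq_prime_pow_of_unique_prime_dvd (by omega) fun {d} hd hdd => by
          rcases k1 d hd hdd with rfl | rfl
          · omega
          · rfl
      have h31 : 3 ∣ m := by
        obtain ⟨r, hr, hd⟩ := Nat.exists_prime_and_dvd (show m ≠ 1 by omega)
        rcases k1 r hr hd with rfl | rfl
        · omega
        · exact hd
      have e2 : m + 1 = 2 ^ (m + 1).primeFactorsList.length :=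
        Nat.eq_prime_pow_of_unique_prime_dvd (by omega) fun {d} hd hdd => by
          rcases k2 d hd hdd with rfl | rfl
          · rfl
          · omega
      have h1 := three_pow_add_one (a := (m + 1).primeFactorsList.length) (b := m.primeFactorsList.length)
        (by rw [← e2, ← e1])
      rw [← e2] at h1
      omega

theorem exists_r2 {q : ℕ} (hq : IsPrimePow q) (h2 : q ≠ 2) (h3 : q ≠ 3) (h5 : q ≠ 5) (h7 : q ≠ 7) (h17 : q ≠ 17) :
    ∃ r, r.Prime ∧ 5 ≤ r ∧ r ∣ q ^ 2 - 1 := exists_r2' hq.two_le h2 h3 h5 h7 h17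

/-- `q² + q + 1` has a prime divisor `≥ 5` -/
theorem exists_r1 {q : ℕ} (hq : 2 ≤ q) : ∃ r, r.Prime ∧ 5 ≤ r ∧ r ∣ q ^ 2 + q + 1 := by
  by_contra hcon
  push Not at hcon
  have hodd : (q ^ 2 + q + 1) % 2 = 1 := by
    rcases Nat.even_or_odd' q with ⟨m, rfl | rfl⟩
    · ring_nf; omega
    · ring_nf; omega
  have h9 : ¬ 9 ∣ q ^ 2 + q + 1 := by
    intro h
    have h1 : q % 9 < 9 := Nat.mod_lt _ (by norm_num)
    have h2 : (q ^ 2 + q + 1) % 9 = ((q % 9) ^ 2 + q % 9 + 1) % 9 := by
      simp [Nat.add_mod, Nat.pow_mod]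
    have h3 : (q ^ 2 + q + 1) % 9 = 0 := Nat.mod_eq_zero_of_dvd h
    rw [h2] at h3
    interval_cases q % 9 <;> omega
  have key : ∀ r : ℕ, r.Prime → r ∣ q ^ 2 + q + 1 → r = 3 := by
    intro r hr hd
    have h1 : r < 5 := by
      by_contra h
      push Not at h
      exact hcon r hr h hd
    have h2 := hr.two_le
    interval_cases r
    · omega
    · rfl
    · exact absurd hr (by norm_num)
  have e := Nat.eq_prime_pow_of_unique_prime_dvd (n := q ^ 2 + q + 1) (p := 3) (by omega) fun {d} hd hdd => key d hd hdd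
  have hl : (q ^ 2 + q + 1).primeFactorsList.length ≤ 1 := by
    by_contra h
    push Not at h
    have h1 : 3 ^ 2 ∣ 3 ^ (q ^ 2 + q + 1).primeFactorsList.length := pow_dvd_pow 3 h
    rw [← e] at h1
    exact h9 h1
  have h1 : q ^ 2 + q + 1 ≤ 3 ^ 1 := by
    calc q ^ 2 + q + 1 = 3 ^ (q ^ 2 + q + 1).primeFactorsList.length := e
      _ ≤ 3 ^ 1 := Nat.pow_le_pow_right (by norm_num) hl
  nlinarith

/-- a prime divisor `≥ 5` of `q² + q + 1` does not divide `q² - 1` -/
theorem ne_of_dvd {q r : ℕ} (hq : 2 ≤ q) (hr : r.Prime) (h5 : 5 ≤ r) (h1 : r ∣ q ^ 2 + q + 1) : ¬ r ∣ q ^ 2 - 1 := by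
  intro h2
  have h4 : 1 ≤ q ^ 2 := Nat.one_le_pow _ _ (by omega)
  have h3 : r ∣ q + 2 := by
    have := Nat.dvd_sub h1 h2
    rwa [show q ^ 2 + q + 1 - (q ^ 2 - 1) = q + 2 by omega] at this
  have h6 : r ∣ 3 := by
    have h7 : (q - 1) * (q + 2) + 3 = q ^ 2 + q + 1 := by
      obtain ⟨t, rfl⟩ := Nat.exists_eq_add_of_le (show 1 ≤ q by omega)
      rw [show 1 + t - 1 = t by omega]
      ring
    rw [← h7] at h1
    exact (Nat.dvd_add_right (Dvd.dvd.mul_left h3 _)).1 h1
  have := Nat.le_of_dvd (by norm_num) h6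
  omega

end Cfsg.Agent.H446.TC6
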